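import Mathlib
import Groth.Prelude.Def_Pi1
import Groth.Agent.Lib.Helper4.NormalizationField2
import Groth.Agent.Lib.Helper4.NormalizationField3
import Groth.Agent.Lib.Helper6.Normal.Scheme
import Groth.Agent.Lib.Helper2.NormFin.Main

/-!
# Finite étale covers of the generic point that extend over a normal integral scheme (helper2)
-/

set_option autoImplicit false
set_option backward.isDefEq.respectTransparency.types false
set_option synthInstance.maxHeartbeats 400000
set_option maxHeartbeats 4000000
set_option linter.style.haveILetI false
set_option linter.unusedSectionVars false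
set_option linter.unusedVariables false

universe u
open CategoryTheory CategoryTheory.Limits AlgebraicGeometry TopologicalSpace IsLocalRing
open Groth.Agent.Helper2.NormFin
open Groth.Agent.Lib.Helper4.NormalizationField1 Groth.Agent.Lib.Helper4.NormalizationField2
  Groth.Agent.Lib.Helper4.NormalizationField3

namespace Groth.Agent.Helper2.Pi1Gen

variable {X : Scheme.{u}} [IsIntegral X] (L : Type u) [Field L] [Algebra X.functionField L]
  [FiniteDimensional X.functionField L]
  [QuasiCompact (hL (X := X) L)] [QuasiSeparated (hL (X := X) L)]

/-- basic facts on the normalization of `X` in a finite extension of its function field -/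
theorem facts :
    ∃ (_ : IsIntegral (hL (X := X) L).normalization),
      Pi1.IsNormalScheme (hL (X := X) L).normalization ∧
      (hL (X := X) L).fromNormalization.base ⁻¹' {genericPoint X} =
        {genericPoint (hL (X := X) L).normalization} ∧
      (hL (X := X) L).toNormalization (closedPoint L) =
        genericPoint (hL (X := X) L).normalization ∧
      Function.Bijective ((hL (X := X) L).toNormalization.stalkMap (closedPoint L)).hom := by
  obtain ⟨hint, hnorm, hfib, hgen, hinj, hrange⟩ :=
    S4448_main X L (algebraMap X.functionField L) (hL (X := X) L) rfl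
  refine ⟨hint, hnorm, hfib, hgen, ?_⟩
  have hbij : Function.Bijective (Scheme.stalkClosedPointTo (hL (X := X) L).toNormalization).hom := by
    refine ⟨hinj, fun y => ?_⟩
    have hy : y ∈ Set.range (Scheme.stalkClosedPointTo (hL (X := X) L).toNormalization).hom := by
      rw [hrange]
      obtain ⟨p, hp, hpy⟩ := Algebra.IsIntegral.isIntegral (R := X.functionField) y
      exact ⟨p, hp, hpy⟩
    exact hy
  have h1 : Scheme.stalkClosedPointTo (hL (X := X) L).toNormalization =
      (hL (X := X) L).toNormalization.stalkMap (closedPoint L) ≫
        (stalkClosedPointIso (CommRingCat.of L)).hom := rfl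
  rw [h1] at hbij
  have hiso : Function.Bijective (stalkClosedPointIso (CommRingCat.of L)).hom.hom :=
    (ConcreteCategory.isIso_iff_bijective _).mp inferInstance
  exact (Function.Bijective.of_comp_iff' hiso _).mp hbij


/-- a surjective-on-stalks morphism out of ... : the stalk at a point mapping to the generic point
of an integral scheme is a field -/
theorem isField_stalk_of_eq_genericPoint {Z : Scheme.{u}} [IsIntegral Z] (z : Z)
    (hz : z = genericPoint Z) : IsField (Z.presheaf.stalk z) := by
  apply isField_stalk_of_closure_mem_irreducibleComponents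
  rw [hz, irreducibleComponents_eq_singleton, Set.mem_singleton_iff]
  exact (genericPoint_spec Z).def

/-- (⇒): if a finite étale cover of `X` restricts to `Spec L` over the generic point, then
the normalization of `X` in `L` is finite étale. -/
theorem forward (hX : Pi1.IsNormalScheme X) {Z : Scheme.{u}} (p : Z ⟶ X) [IsFinite p] [Etale p]
    (j : pullback p (X.fromSpecStalk (genericPoint X)) ≅ Spec (CommRingCat.of L))
    (hj : j.hom ≫ Spec.map (CommRingCat.ofHom (algebraMap X.functionField L)) =
      pullback.snd p (X.fromSpecStalk (genericPoint X))) :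
    Etale (hL (X := X) L).fromNormalization ∧ IsFinite (hL (X := X) L).fromNormalization := by
  obtain ⟨hint, hnorm, hfib, hgen, hT⟩ := facts (X := X) L
  let q : Spec (CommRingCat.of L) ⟶ Z := j.inv ≫ pullback.fst p (X.fromSpecStalk (genericPoint X))
  have hjs : j.inv ≫ pullback.snd p (X.fromSpecStalk (genericPoint X)) =
      Spec.map (CommRingCat.ofHom (algebraMap X.functionField L)) := by
    rw [Iso.inv_comp_eq, hj]
  have hq : q ≫ p = hL (X := X) L := by
    show (j.inv ≫ pullback.fst p (X.fromSpecStalk (genericPoint X))) ≫ p = _
    rw [Category.assoc, pullback.condition, ← Category.assoc, hjs]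
  let t₀ : Spec (CommRingCat.of L) := closedPoint L
  let z₀ : Z := q t₀
  have hZnorm : Pi1.IsNormalScheme Z :=
    Groth.Agent.Lib.Helper6.Normal.isNormalScheme_of_smooth p hX
  haveI hsub : Subsingleton (Spec (CommRingCat.of L)) :=
    subsingleton_Spec_of_isField _ (inferInstance : Field L).toIsField
  -- the generic fibre of `p` is `{z₀}`
  have hfibZ : ∀ z : Z, p z = genericPoint X → z = z₀ := by
    intro z hz
    let tK : Spec (X.presheaf.stalk (genericPoint X)) := closedPoint _
    have hftK : (X.fromSpecStalk (genericPoint X)) tK = genericPoint X := fromSpecStalk_genericPoint_apply X tK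
    obtain ⟨w, hw1, -⟩ := Scheme.Pullback.exists_preimage_pullback (f := p) (g := X.fromSpecStalk (genericPoint X)) z tK
      (hz.trans hftK.symm)
    have hw : w = j.inv t₀ := by
      have h1 : j.inv (j.hom w) = w := by
        rw [← Scheme.Hom.comp_apply, Iso.hom_inv_id]; rfl
      rw [← h1, Subsingleton.elim (j.hom w) t₀]
    rw [← hw1, hw]
    rfl
  have hspec : ∀ z : Z, z₀ ⤳ z := by
    intro z
    obtain ⟨z', hz'z, hz'⟩ := (Flat.generalizingMap (f := p))
      (genericPoint_specializes (p z))
    rw [← hfibZ z' hz']
    exact hz'z
  have hcl : closure ({z₀} : Set Z) = Set.univ :=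
    Set.eq_univ_of_forall fun z => (hspec z).mem_closure
  haveI : IrreducibleSpace Z :=
    { isPreirreducible_univ := by
        rw [← hcl]; exact isIrreducible_singleton.closure.isPreirreducible
      toNonempty := ⟨z₀⟩ }
  haveI : IsIntegral Z := isIntegral_of_isNormalScheme_of_irreducibleSpace hZnorm
  have hz₀gen : z₀ = genericPoint Z :=
    ((genericPoint_spec Z).eq (show IsGenericPoint z₀ Set.univ from hcl)).symm
  let φ : (hL (X := X) L).normalization ⟶ Z := (hL (X := X) L).normalizationDesc q p hq.symm
  have hιφ : (hL (X := X) L).toNormalization ≫ φ = q :=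
    (hL (X := X) L).toNormalization_normalizationDesc q p hq.symm
  have hφν : φ ≫ p = (hL (X := X) L).fromNormalization :=
    (hL (X := X) L).normalizationDesc_comp q p hq.symm
  have hφgen : φ (genericPoint (hL (X := X) L).normalization) = genericPoint Z := by
    rw [← hgen, ← Scheme.Hom.comp_apply, hιφ]
    exact hz₀gen
  -- the stalk map of `q` is bijective
  have hqbij : Function.Bijective (q.stalkMap t₀).hom := by
    have hF : IsField (Z.presheaf.stalk (q t₀)) := isField_stalk_of_eq_genericPoint z₀ hz₀gen
    letI := hF.toField
    exact ⟨(q.stalkMap t₀).hom.injective, q.stalkMap_surjective t₀⟩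
  have hφbij : Function.Bijective
      (φ.stalkMap (genericPoint (hL (X := X) L).normalization)).hom := by
    refine bijective_stalkMap_congr_pt φ _ _ hgen ?_
    have h1 : Function.Bijective (((hL (X := X) L).toNormalization ≫ φ).stalkMap t₀).hom :=
      bijective_stalkMap_congr_hom _ q hιφ t₀ hqbij
    have h1' : Function.Bijective (((hL (X := X) L).toNormalization.stalkMap t₀).hom ∘
        (φ.stalkMap ((hL (X := X) L).toNormalization t₀)).hom) := by
      rw [Scheme.Hom.stalkMap_comp] at h1
      exact h1
    exact (Function.Bijective.of_comp_iff' hT _).mp h1'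
  haveI : IsIso φ := isIso_of_isIntegralHom_of_birational (fun z => (hZnorm z).2) φ hφgen
    ((ConcreteCategory.isIso_iff_bijective _).mpr hφbij)
  rw [← hφν]
  exact ⟨inferInstance, inferInstance⟩


/-- (⇐): the generic fibre of the normalization of `X` in `L` is `Spec L`. -/
theorem backward :
    ∃ k : pullback (hL (X := X) L).fromNormalization (X.fromSpecStalk (genericPoint X)) ≅
        Spec (CommRingCat.of L),
      k.hom ≫ Spec.map (CommRingCat.ofHom (algebraMap X.functionField L)) =
        pullback.snd (hL (X := X) L).fromNormalization (X.fromSpecStalk (genericPoint X)) := by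
  obtain ⟨hint, hnorm, hfib, hgen, hT⟩ := facts (X := X) L
  let ν := (hL (X := X) L).fromNormalization
  let s : Spec (CommRingCat.of L) ⟶ pullback ν (X.fromSpecStalk (genericPoint X)) :=
    pullback.lift (hL (X := X) L).toNormalization
      (Spec.map (CommRingCat.ofHom (algebraMap X.functionField L)))
      ((hL (X := X) L).toNormalization_fromNormalization)
  have hs1 : s ≫ pullback.fst ν (X.fromSpecStalk (genericPoint X)) =
      (hL (X := X) L).toNormalization := pullback.lift_fst _ _ _
  have hs2 : s ≫ pullback.snd ν (X.fromSpecStalk (genericPoint X)) =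
      Spec.map (CommRingCat.ofHom (algebraMap X.functionField L)) := pullback.lift_snd _ _ _
  let t₀ : Spec (CommRingCat.of L) := closedPoint L
  haveI hsub : Subsingleton (Spec (CommRingCat.of L)) :=
    subsingleton_Spec_of_isField _ (inferInstance : Field L).toIsField
  -- the pullback has a single point
  haveI hPsub : Subsingleton ↥(pullback ν (X.fromSpecStalk (genericPoint X)) : Scheme.{u}) := by
    refine ⟨fun w w' => ?_⟩
    apply (pullback.fst ν (X.fromSpecStalk (genericPoint X))).isEmbedding.injective
    have key : ∀ w : ↥(pullback ν (X.fromSpecStalk (genericPoint X)) : Scheme.{u}),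
        (pullback.fst ν (X.fromSpecStalk (genericPoint X))) w =
          genericPoint (hL (X := X) L).normalization := by
      intro w
      have h1 : ν ((pullback.fst ν (X.fromSpecStalk (genericPoint X))) w) = genericPoint X := by
        rw [← Scheme.Hom.comp_apply, pullback.condition, Scheme.Hom.comp_apply]
        exact fromSpecStalk_genericPoint_apply X _
      have h2 : (pullback.fst ν (X.fromSpecStalk (genericPoint X))) w ∈
          (hL (X := X) L).fromNormalization.base ⁻¹' {genericPoint X} := h1
      rw [hfib] at h2
      exact h2
    rw [key w, key w']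
  have hsurj : Function.Surjective s := by
    intro w
    exact ⟨t₀, Subsingleton.elim _ _⟩
  -- the stalk map of `s` is bijective
  have hsbij : Function.Bijective (s.stalkMap t₀).hom := by
    have h1 : Function.Bijective
        ((s ≫ pullback.fst ν (X.fromSpecStalk (genericPoint X))).stalkMap t₀).hom :=
      bijective_stalkMap_congr_hom _ _ hs1 t₀ hT
    have h1' : Function.Bijective ((s.stalkMap t₀).hom ∘
        ((pullback.fst ν (X.fromSpecStalk (genericPoint X))).stalkMap (s t₀)).hom) := by
      rw [Scheme.Hom.stalkMap_comp] at h1
      exact h1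
    have h2 : Function.Bijective
        ((pullback.fst ν (X.fromSpecStalk (genericPoint X))).stalkMap (s t₀)).hom :=
      ⟨Function.Injective.of_comp h1'.1,
        (pullback.fst ν (X.fromSpecStalk (genericPoint X))).stalkMap_surjective (s t₀)⟩
    exact (Function.Bijective.of_comp_iff _ h2).mp h1'
  haveI : ∀ t, IsIso (s.stalkMap t) := by
    intro t
    rw [Subsingleton.elim t t₀]
    exact (ConcreteCategory.isIso_iff_bijective _).mpr hsbij
  have hopen : Topology.IsOpenEmbedding s := by
    refine ⟨Topology.IsEmbedding.of_subsingleton _, ?_⟩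
    rw [hsurj.range_eq]
    exact isOpen_univ
  haveI : IsOpenImmersion s := IsOpenImmersion.of_isIso_stalkMap s hopen
  haveI : Epi s.base := (TopCat.epi_iff_surjective _).mpr hsurj
  haveI : IsIso s := IsOpenImmersion.isIso s
  refine ⟨(asIso s).symm, ?_⟩
  show inv s ≫ _ = _
  rw [IsIso.inv_comp_eq, hs2]


theorem main (hX : Pi1.IsNormalScheme X)
    (Y₀ : FEt.Cat (Spec X.functionField)) (e : Y₀.left ≅ Spec (CommRingCat.of L))
    (he : e.hom ≫ Spec.map (CommRingCat.ofHom (algebraMap X.functionField L)) = Y₀.hom) :
    (FEt.restrict (X.fromSpecStalk (genericPoint X))).essImage Y₀ ↔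
      (Etale (hL (X := X) L).fromNormalization ∧ IsFinite (hL (X := X) L).fromNormalization) := by
  constructor
  · rintro ⟨W, ⟨ψ⟩⟩
    haveI : IsFinite W.hom := W.prop.1
    haveI : Etale W.hom := W.prop.2
    have hψ : ψ.hom.left ≫ Y₀.hom = pullback.snd W.hom (X.fromSpecStalk (genericPoint X)) :=
      MorphismProperty.Over.w ψ.hom
    let i : pullback W.hom (X.fromSpecStalk (genericPoint X)) ≅ Y₀.left :=
      (MorphismProperty.Over.forget _ _ _ ⋙ CategoryTheory.Over.forget _).mapIso ψ
    have hi : i.hom = ψ.hom.left := rfl
    refine forward L hX W.hom (i ≪≫ e) ?_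
    rw [Iso.trans_hom, Category.assoc, he, hi]
    exact hψ
  · rintro ⟨het, hfin⟩
    obtain ⟨k, hk⟩ := backward (X := X) L
    let W : FEt.Cat X := MorphismProperty.Over.mk ⊤ (hL (X := X) L).fromNormalization ⟨hfin, het⟩
    refine ⟨W, ⟨MorphismProperty.Over.isoMk (k ≪≫ e.symm) ?_⟩⟩
    show (k ≪≫ e.symm).hom ≫ Y₀.hom =
      pullback.snd (hL (X := X) L).fromNormalization (X.fromSpecStalk (genericPoint X))
    rw [Iso.trans_hom, Category.assoc, ← he, Iso.symm_hom, Iso.inv_hom_id_assoc, hk]

end Groth.Agent.Helper2.Pi1Gen
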